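import Cfsg.Agent.Lib.Helper6.TCD.HNP1a.NCP0
import Cfsg.Agent.Lib.Helper6.TCD.HNP1a.NCP1
import Cfsg.Agent.Lib.Helper6.TCD.HNP1a.NCP2
import Cfsg.Agent.Lib.Helper6.TCD.HNP1a.NCP3
import Cfsg.Agent.Lib.Helper6.TCD.HNP1a.NCP4
import Cfsg.Agent.Lib.Helper6.TCD.HNP1a.NCP5
import Cfsg.Agent.Lib.Helper6.TCD.HNP1a.NCP6
import Cfsg.Agent.Lib.Helper6.TCD.HNP1a.NCP7
import Cfsg.Agent.Lib.Helper6.TCD.HNP1a.NCP8
import Cfsg.Agent.Lib.Helper6.TCD.HNP1a.NCP9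
import Cfsg.Agent.Lib.Helper6.TCD.HNP1a.NCP10
import Cfsg.Agent.Lib.Helper6.TCD.HNP1a.NCP11
import Cfsg.Agent.Lib.Helper6.TCD.HNP1a.NCP12
import Cfsg.Agent.Lib.Helper6.TCD.HNP1a.NCP13
import Cfsg.Agent.Lib.Helper6.TCD.HNP1a.NCP14
import Cfsg.Agent.Lib.Helper6.TCD.HNP1a.NCP15
import Cfsg.Agent.Lib.Helper6.TCD.HNP1a.NCP16
import Cfsg.Agent.Lib.Helper6.TCD.HNP1a.NCP17
set_option autoImplicit false
namespace Cfsg.Agent.Lib.Helper6.TCD.HNP1a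
noncomputable def NCT0 (i : Nat) : Nat := Bool.rec (NCP0N62 i) (NCP1N62 i) (Nat.ble 32768 i)
noncomputable def NCT1 (i : Nat) : Nat := Bool.rec (NCT0 i) (NCP2N62 i) (Nat.ble 65536 i)
noncomputable def NCT2 (i : Nat) : Nat := Bool.rec (NCP3N62 i) (NCP4N62 i) (Nat.ble 131072 i)
noncomputable def NCT3 (i : Nat) : Nat := Bool.rec (NCT1 i) (NCT2 i) (Nat.ble 98304 i)
noncomputable def NCT4 (i : Nat) : Nat := Bool.rec (NCP5N62 i) (NCP6N62 i) (Nat.ble 196608 i)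
noncomputable def NCT5 (i : Nat) : Nat := Bool.rec (NCP7N62 i) (NCP8N62 i) (Nat.ble 262144 i)
noncomputable def NCT6 (i : Nat) : Nat := Bool.rec (NCT4 i) (NCT5 i) (Nat.ble 229376 i)
noncomputable def NCT7 (i : Nat) : Nat := Bool.rec (NCT3 i) (NCT6 i) (Nat.ble 163840 i)
noncomputable def NCT8 (i : Nat) : Nat := Bool.rec (NCP9N62 i) (NCP10N62 i) (Nat.ble 327680 i)
noncomputable def NCT9 (i : Nat) : Nat := Bool.rec (NCT8 i) (NCP11N62 i) (Nat.ble 360448 i)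
noncomputable def NCT10 (i : Nat) : Nat := Bool.rec (NCP12N62 i) (NCP13N62 i) (Nat.ble 425984 i)
noncomputable def NCT11 (i : Nat) : Nat := Bool.rec (NCT9 i) (NCT10 i) (Nat.ble 393216 i)
noncomputable def NCT12 (i : Nat) : Nat := Bool.rec (NCP14N62 i) (NCP15N62 i) (Nat.ble 491520 i)
noncomputable def NCT13 (i : Nat) : Nat := Bool.rec (NCP16N62 i) (NCP17N61 i) (Nat.ble 557056 i)
noncomputable def NCT14 (i : Nat) : Nat := Bool.rec (NCT12 i) (NCT13 i) (Nat.ble 524288 i)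
noncomputable def NCT15 (i : Nat) : Nat := Bool.rec (NCT11 i) (NCT14 i) (Nat.ble 458752 i)
noncomputable def NC (i : Nat) : Nat := Bool.rec (NCT7 i) (NCT15 i) (Nat.ble 294912 i)
end Cfsg.Agent.Lib.Helper6.TCD.HNP1a
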