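import Cfsg.Agent.Lib.Helper6.TCD.HNP1a.NHP0
import Cfsg.Agent.Lib.Helper6.TCD.HNP1a.NHP1
import Cfsg.Agent.Lib.Helper6.TCD.HNP1a.NHP2
import Cfsg.Agent.Lib.Helper6.TCD.HNP1a.NHP3
import Cfsg.Agent.Lib.Helper6.TCD.HNP1a.NHP4
import Cfsg.Agent.Lib.Helper6.TCD.HNP1a.NHP5
import Cfsg.Agent.Lib.Helper6.TCD.HNP1a.NHP6
import Cfsg.Agent.Lib.Helper6.TCD.HNP1a.NHP7
import Cfsg.Agent.Lib.Helper6.TCD.HNP1a.NHP8
set_option autoImplicit false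
namespace Cfsg.Agent.Lib.Helper6.TCD.HNP1a
noncomputable def NHT0 (i : Nat) : Nat := Bool.rec (NHP0N62 i) (NHP1N62 i) (Nat.ble 65536 i)
noncomputable def NHT1 (i : Nat) : Nat := Bool.rec (NHT0 i) (NHP2N62 i) (Nat.ble 131072 i)
noncomputable def NHT2 (i : Nat) : Nat := Bool.rec (NHP3N62 i) (NHP4N62 i) (Nat.ble 262144 i)
noncomputable def NHT3 (i : Nat) : Nat := Bool.rec (NHT1 i) (NHT2 i) (Nat.ble 196608 i)
noncomputable def NHT4 (i : Nat) : Nat := Bool.rec (NHP5N62 i) (NHP6N62 i) (Nat.ble 393216 i)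
noncomputable def NHT5 (i : Nat) : Nat := Bool.rec (NHP7N62 i) (NHP8N62 i) (Nat.ble 524288 i)
noncomputable def NHT6 (i : Nat) : Nat := Bool.rec (NHT4 i) (NHT5 i) (Nat.ble 458752 i)
noncomputable def NH (i : Nat) : Nat := Bool.rec (NHT3 i) (NHT6 i) (Nat.ble 327680 i)
end Cfsg.Agent.Lib.Helper6.TCD.HNP1a
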