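import Cfsg.Agent.Lib.Helper6.TCD.HNP1a.SCP0
import Cfsg.Agent.Lib.Helper6.TCD.HNP1a.SCP1
import Cfsg.Agent.Lib.Helper6.TCD.HNP1a.SCP2
import Cfsg.Agent.Lib.Helper6.TCD.HNP1a.SCP3
import Cfsg.Agent.Lib.Helper6.TCD.HNP1a.SCP4
import Cfsg.Agent.Lib.Helper6.TCD.HNP1a.SCP5
import Cfsg.Agent.Lib.Helper6.TCD.HNP1a.SCP6
import Cfsg.Agent.Lib.Helper6.TCD.HNP1a.SCP7
import Cfsg.Agent.Lib.Helper6.TCD.HNP1a.SCP8
import Cfsg.Agent.Lib.Helper6.TCD.HNP1a.SCP9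
import Cfsg.Agent.Lib.Helper6.TCD.HNP1a.SCP10
import Cfsg.Agent.Lib.Helper6.TCD.HNP1a.SCP11
import Cfsg.Agent.Lib.Helper6.TCD.HNP1a.SCP12
import Cfsg.Agent.Lib.Helper6.TCD.HNP1a.SCP13
import Cfsg.Agent.Lib.Helper6.TCD.HNP1a.SCP14
import Cfsg.Agent.Lib.Helper6.TCD.HNP1a.SCP15
import Cfsg.Agent.Lib.Helper6.TCD.HNP1a.SCP16
import Cfsg.Agent.Lib.Helper6.TCD.HNP1a.SCP17
import Cfsg.Agent.Lib.Helper6.TCD.HNP1a.SCP18
import Cfsg.Agent.Lib.Helper6.TCD.HNP1a.SCP19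
import Cfsg.Agent.Lib.Helper6.TCD.HNP1a.SCP20
import Cfsg.Agent.Lib.Helper6.TCD.HNP1a.SCP21
import Cfsg.Agent.Lib.Helper6.TCD.HNP1a.SCP22
import Cfsg.Agent.Lib.Helper6.TCD.HNP1a.SCP23
import Cfsg.Agent.Lib.Helper6.TCD.HNP1a.SCP24
import Cfsg.Agent.Lib.Helper6.TCD.HNP1a.SCP25
import Cfsg.Agent.Lib.Helper6.TCD.HNP1a.SCP26
import Cfsg.Agent.Lib.Helper6.TCD.HNP1a.SCP27
import Cfsg.Agent.Lib.Helper6.TCD.HNP1a.SCP28
import Cfsg.Agent.Lib.Helper6.TCD.HNP1a.SCP29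
import Cfsg.Agent.Lib.Helper6.TCD.HNP1a.SCP30
import Cfsg.Agent.Lib.Helper6.TCD.HNP1a.SCP31
import Cfsg.Agent.Lib.Helper6.TCD.HNP1a.SCP32
import Cfsg.Agent.Lib.Helper6.TCD.HNP1a.SCP33
import Cfsg.Agent.Lib.Helper6.TCD.HNP1a.SCP34
import Cfsg.Agent.Lib.Helper6.TCD.HNP1a.SCP35
set_option autoImplicit false
namespace Cfsg.Agent.Lib.Helper6.TCD.HNP1a
noncomputable def SCT0 (i : Nat) : Nat := Bool.rec (SCP0N62 i) (SCP1N62 i) (Nat.ble 65536 i)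
noncomputable def SCT1 (i : Nat) : Nat := Bool.rec (SCT0 i) (SCP2N62 i) (Nat.ble 131072 i)
noncomputable def SCT2 (i : Nat) : Nat := Bool.rec (SCP3N62 i) (SCP4N62 i) (Nat.ble 262144 i)
noncomputable def SCT3 (i : Nat) : Nat := Bool.rec (SCT1 i) (SCT2 i) (Nat.ble 196608 i)
noncomputable def SCT4 (i : Nat) : Nat := Bool.rec (SCP5N62 i) (SCP6N62 i) (Nat.ble 393216 i)
noncomputable def SCT5 (i : Nat) : Nat := Bool.rec (SCP7N62 i) (SCP8N62 i) (Nat.ble 524288 i)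
noncomputable def SCT6 (i : Nat) : Nat := Bool.rec (SCT4 i) (SCT5 i) (Nat.ble 458752 i)
noncomputable def SCT7 (i : Nat) : Nat := Bool.rec (SCT3 i) (SCT6 i) (Nat.ble 327680 i)
noncomputable def SCT8 (i : Nat) : Nat := Bool.rec (SCP9N62 i) (SCP10N62 i) (Nat.ble 655360 i)
noncomputable def SCT9 (i : Nat) : Nat := Bool.rec (SCT8 i) (SCP11N62 i) (Nat.ble 720896 i)
noncomputable def SCT10 (i : Nat) : Nat := Bool.rec (SCP12N62 i) (SCP13N62 i) (Nat.ble 851968 i)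
noncomputable def SCT11 (i : Nat) : Nat := Bool.rec (SCT9 i) (SCT10 i) (Nat.ble 786432 i)
noncomputable def SCT12 (i : Nat) : Nat := Bool.rec (SCP14N62 i) (SCP15N62 i) (Nat.ble 983040 i)
noncomputable def SCT13 (i : Nat) : Nat := Bool.rec (SCP16N62 i) (SCP17N62 i) (Nat.ble 1114112 i)
noncomputable def SCT14 (i : Nat) : Nat := Bool.rec (SCT12 i) (SCT13 i) (Nat.ble 1048576 i)
noncomputable def SCT15 (i : Nat) : Nat := Bool.rec (SCT11 i) (SCT14 i) (Nat.ble 917504 i)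
noncomputable def SCT16 (i : Nat) : Nat := Bool.rec (SCT7 i) (SCT15 i) (Nat.ble 589824 i)
noncomputable def SCT17 (i : Nat) : Nat := Bool.rec (SCP18N62 i) (SCP19N62 i) (Nat.ble 1245184 i)
noncomputable def SCT18 (i : Nat) : Nat := Bool.rec (SCT17 i) (SCP20N62 i) (Nat.ble 1310720 i)
noncomputable def SCT19 (i : Nat) : Nat := Bool.rec (SCP21N62 i) (SCP22N62 i) (Nat.ble 1441792 i)
noncomputable def SCT20 (i : Nat) : Nat := Bool.rec (SCT18 i) (SCT19 i) (Nat.ble 1376256 i)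
noncomputable def SCT21 (i : Nat) : Nat := Bool.rec (SCP23N62 i) (SCP24N62 i) (Nat.ble 1572864 i)
noncomputable def SCT22 (i : Nat) : Nat := Bool.rec (SCP25N62 i) (SCP26N62 i) (Nat.ble 1703936 i)
noncomputable def SCT23 (i : Nat) : Nat := Bool.rec (SCT21 i) (SCT22 i) (Nat.ble 1638400 i)
noncomputable def SCT24 (i : Nat) : Nat := Bool.rec (SCT20 i) (SCT23 i) (Nat.ble 1507328 i)
noncomputable def SCT25 (i : Nat) : Nat := Bool.rec (SCP27N62 i) (SCP28N62 i) (Nat.ble 1835008 i)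
noncomputable def SCT26 (i : Nat) : Nat := Bool.rec (SCT25 i) (SCP29N62 i) (Nat.ble 1900544 i)
noncomputable def SCT27 (i : Nat) : Nat := Bool.rec (SCP30N62 i) (SCP31N62 i) (Nat.ble 2031616 i)
noncomputable def SCT28 (i : Nat) : Nat := Bool.rec (SCT26 i) (SCT27 i) (Nat.ble 1966080 i)
noncomputable def SCT29 (i : Nat) : Nat := Bool.rec (SCP32N62 i) (SCP33N62 i) (Nat.ble 2162688 i)
noncomputable def SCT30 (i : Nat) : Nat := Bool.rec (SCP34N62 i) (SCP35N60 i) (Nat.ble 2293760 i)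
noncomputable def SCT31 (i : Nat) : Nat := Bool.rec (SCT29 i) (SCT30 i) (Nat.ble 2228224 i)
noncomputable def SCT32 (i : Nat) : Nat := Bool.rec (SCT28 i) (SCT31 i) (Nat.ble 2097152 i)
noncomputable def SCT33 (i : Nat) : Nat := Bool.rec (SCT24 i) (SCT32 i) (Nat.ble 1769472 i)
noncomputable def SC (i : Nat) : Nat := Bool.rec (SCT16 i) (SCT33 i) (Nat.ble 1179648 i)
end Cfsg.Agent.Lib.Helper6.TCD.HNP1a
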