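set_option autoImplicit false
namespace Cfsg.Agent.Lib.Helper6.TCD.HNP1a
noncomputable def WDL0 (i : Nat) : Nat := Nat.land (Nat.shiftRight 0x1203120312030c0000000000002031203120310c0000000000000000001311210600000000000000000031121106000000000000000000112113060000000000000000001211310600000000000000000021131106000000000000000000113112060000000000000000000020030600000000000000000002003006000000000000000000200300060000000000000000000030020600000000000000000003002006000000000000000000300200060000000000000000003333330600000000000000000022222206 (Nat.mul 104 (Nat.land i 15))) 20282409603651670423947251286015
noncomputable def WDL1 (i : Nat) : Nat := Nat.land (Nat.shiftRight 0x330331333033133303313150003033133303313330331331500003313330331333033133315000220221222022122202212150002022122202212220221221500002212220221222022122215000221222022122202212220150002122202212220221222021500012220221222022122202215000222022122202212220221150000000000002130213021300c0000000000001302130213020c0000000000003021302130210c0000000000000213021302130c0000000000000312031203120c0000000000003120312031200c (Nat.mul 104 (Nat.land i 15))) 20282409603651670423947251286015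
noncomputable def WDP0N0 (i : Nat) : Nat := Bool.rec (WDL0 i) (WDL1 i) (Nat.ble 16 i)
noncomputable def WDL2 (i : Nat) : Nat := Nat.land (Nat.shiftRight 0x31313331313331313331313318131333131333131333131333182202022202022202022202021820202220202220202220202218020222020222020222020222182022202022202022202022201802220202220202220202220218222020222020222020222020180000000031313131313131311000000000131313131313131310000000000202020202020202100000000020202020202020201000033133303313330331333015000313330331333033133303150001333033133303313330331500033303313330331333033115 (Nat.mul 104 (Nat.land i 15))) 20282409603651670423947251286015
noncomputable def WDL3 (i : Nat) : Nat := Nat.land (Nat.shiftRight 0x2010000000000000000000000230200000000000000000000003202000000000000000000000001020000000000000000000000100231333131333131333131333118133313133313133313133313183331313331313331313331311833131333131333131333131318 (Nat.mul 104 (Nat.land i 15))) 20282409603651670423947251286015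
noncomputable def WDP0N1 (i : Nat) : Nat := Bool.rec (WDL2 i) (WDL3 i) (Nat.ble 48 i)
noncomputable def WD (i : Nat) : Nat := Bool.rec (WDP0N0 i) (WDP0N1 i) (Nat.ble 32 i)
end Cfsg.Agent.Lib.Helper6.TCD.HNP1a
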