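set_option autoImplicit false
namespace Cfsg.Agent.Lib.Helper6.TCD.HNP1a
noncomputable def WI (i : Nat) : Nat := Nat.land (Nat.shiftRight 0x838001c020c00068282c1016060b02058082c00140a0a0405018280814020a0005808240010020800048301c140e080703038101c040e0006060302818100c0606020300818000e060502028081400080604020200810000a0a0304018180c0806020300010280810040602020100808000600000000 (Nat.mul 17 (Nat.land i 255))) 131071
end Cfsg.Agent.Lib.Helper6.TCD.HNP1a
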