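import Cfsg.Agent.Lib.Helper6.TCD.HNP1a.SH
import Cfsg.Agent.Lib.Helper6.TCD.HNP1a.SC
import Cfsg.Agent.Lib.Helper6.TCD.HNP1a.NH
import Cfsg.Agent.Lib.Helper6.TCD.HNP1a.NC
import Cfsg.Agent.Lib.Helper6.TCD.HNP1a.WD
import Cfsg.Agent.Lib.Helper6.TCD.HNP1a.WI
set_option autoImplicit false
namespace Cfsg.Agent.Lib.Helper6.TCD.HNP1a
def n : Nat := 589189
def ncol : Nat := 4
def nrw : Nat := 56
def nw : Nat := 57
def tmax : Nat := 2299195
def INV : Nat := 8961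
def N : Nat := 252000
end Cfsg.Agent.Lib.Helper6.TCD.HNP1a
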