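import Cfsg.Agent.Lib.Helper6.TCD.HNP1a.CS0
import Cfsg.Agent.Lib.Helper6.TCD.HNP1a.CS1
import Cfsg.Agent.Lib.Helper6.TCD.HNP1a.CS2
import Cfsg.Agent.Lib.Helper6.TCD.HNP1a.CS3
import Cfsg.Agent.Lib.Helper6.TCD.HNP1a.CS4
import Cfsg.Agent.Lib.Helper6.TCD.HNP1a.CS5
import Cfsg.Agent.Lib.Helper6.TCD.HNP1a.CS6
import Cfsg.Agent.Lib.Helper6.TCD.HNP1a.CS7
import Cfsg.Agent.Lib.Helper6.TCD.HNP1a.CS8
import Cfsg.Agent.Lib.Helper6.TCD.HNP1a.CS9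
import Cfsg.Agent.Lib.Helper6.TCD.HNP1a.CS10
import Cfsg.Agent.Lib.Helper6.TCD.HNP1a.CS11
import Cfsg.Agent.Lib.Helper6.TCD.HNP1a.CS12
import Cfsg.Agent.Lib.Helper6.TCD.HNP1a.CS13
import Cfsg.Agent.Lib.Helper6.TCD.HNP1a.CS14
import Cfsg.Agent.Lib.Helper6.TCD.HNP1a.CS15
import Cfsg.Agent.Lib.Helper6.TCD.HNP1a.CS16
import Cfsg.Agent.Lib.Helper6.TCD.HNP1a.CS17
import Cfsg.Agent.Lib.Helper6.TCD.HNP1a.CS18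
import Cfsg.Agent.Lib.Helper6.TCD.HNP1a.CS19
import Cfsg.Agent.Lib.Helper6.TCD.HNP1a.CS20
import Cfsg.Agent.Lib.Helper6.TCD.HNP1a.CS21
import Cfsg.Agent.Lib.Helper6.TCD.HNP1a.CS22
import Cfsg.Agent.Lib.Helper6.TCD.HNP1a.CS23
import Cfsg.Agent.Lib.Helper6.TCD.HNP1a.CS24
import Cfsg.Agent.Lib.Helper6.TCD.HNP1a.CS25
import Cfsg.Agent.Lib.Helper6.TCD.HNP1a.CS26
import Cfsg.Agent.Lib.Helper6.TCD.HNP1a.CS27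
import Cfsg.Agent.Lib.Helper6.TCD.HNP1a.CS28
import Cfsg.Agent.Lib.Helper6.TCD.HNP1a.CS29
import Cfsg.Agent.Lib.Helper6.TCD.HNP1a.CS30
import Cfsg.Agent.Lib.Helper6.TCD.HNP1a.CS31
import Cfsg.Agent.Lib.Helper6.TCD.HNP1a.CS32
import Cfsg.Agent.Lib.Helper6.TCD.HNP1a.CS33
import Cfsg.Agent.Lib.Helper6.TCD.HNP1a.CS34
import Cfsg.Agent.Lib.Helper6.TCD.HNP1a.CS35
import Cfsg.Agent.Lib.Helper6.TCD.HNP1a.CS36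
import Cfsg.Agent.Lib.Helper6.TCD.HNP1a.CS37
import Cfsg.Agent.Lib.Helper6.TCD.HNP1a.CS38
import Cfsg.Agent.Lib.Helper6.TCD.HNP1a.CS39
import Cfsg.Agent.Lib.Helper6.TCD.HNP1a.CS40
import Cfsg.Agent.Lib.Helper6.TCD.HNP1a.CS41
import Cfsg.Agent.Lib.Helper6.TCD.HNP1a.CS42
import Cfsg.Agent.Lib.Helper6.TCD.HNP1a.CS43
import Cfsg.Agent.Lib.Helper6.TCD.HNP1a.CS44
import Cfsg.Agent.Lib.Helper6.TCD.HNP1a.CS45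
import Cfsg.Agent.Lib.Helper6.TCD.HNP1a.CS46
import Cfsg.Agent.Lib.Helper6.TCD.HNP1a.CS47
import Cfsg.Agent.Lib.Helper6.TCD.HNP1a.CS48
import Cfsg.Agent.Lib.Helper6.TCD.HNP1a.CS49
import Cfsg.Agent.Lib.Helper6.TCD.HNP1a.CS50
import Cfsg.Agent.Lib.Helper6.TCD.HNP1a.CS51
import Cfsg.Agent.Lib.Helper6.TCD.HNP1a.CS52
import Cfsg.Agent.Lib.Helper6.TCD.HNP1a.CS53
import Cfsg.Agent.Lib.Helper6.TCD.HNP1a.CS54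
import Cfsg.Agent.Lib.Helper6.TCD.HNP1a.CS55
import Cfsg.Agent.Lib.Helper6.TCD.HNP1a.CS56
import Cfsg.Agent.Lib.Helper6.TCD.HNP1a.CS57
import Cfsg.Agent.Lib.Helper6.TCD.HNP1a.CS58
import Cfsg.Agent.Lib.Helper6.TCD.HNP1a.CS59
import Cfsg.Agent.Lib.Helper6.TCD.HNP1a.CS60
import Cfsg.Agent.Lib.Helper6.TCD.HNP1a.CS61
import Cfsg.Agent.Lib.Helper6.TCD.HNP1a.CS62
import Cfsg.Agent.Lib.Helper6.TCD.HNP1a.CS63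
import Cfsg.Agent.Lib.Helper6.TCD.HNP1a.CS64
import Cfsg.Agent.Lib.Helper6.TCD.HNP1a.CS65
import Cfsg.Agent.Lib.Helper6.TCD.HNP1a.CS66
import Cfsg.Agent.Lib.Helper6.TCD.HNP1a.CS67
import Cfsg.Agent.Lib.Helper6.TCD.HNP1a.CS68
import Cfsg.Agent.Lib.Helper6.TCD.HNP1a.CS69
import Cfsg.Agent.Lib.Helper6.TCD.HNP1a.CS70
import Cfsg.Agent.Lib.Helper6.TCD.HNP1a.CS71
import Cfsg.Agent.Lib.Helper6.TCD.HNP1a.CS72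
import Cfsg.Agent.Lib.Helper6.TCD.HNP1a.CS73
import Cfsg.Agent.Lib.Helper6.TCD.HNP1a.CS74
import Cfsg.Agent.Lib.Helper6.TCD.HNP1a.CS75
import Cfsg.Agent.Lib.Helper6.TCD.HNP1a.CS76
import Cfsg.Agent.Lib.Helper6.TCD.HNP1a.CS77
import Cfsg.Agent.Lib.Helper6.TCD.HNP1a.CS78
import Cfsg.Agent.Lib.Helper6.TCD.HNP1a.CS79
import Cfsg.Agent.Lib.Helper6.TCD.HNP1a.CS80
import Cfsg.Agent.Lib.Helper6.TCD.HNP1a.CS81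
import Cfsg.Agent.Lib.Helper6.TCD.HNP1a.CS82
import Cfsg.Agent.Lib.Helper6.TCD.HNP1a.CS83
import Cfsg.Agent.Lib.Helper6.TCD.HNP1a.CS84
import Cfsg.Agent.Lib.Helper6.TCD.HNP1a.CS85
import Cfsg.Agent.Lib.Helper6.TCD.HNP1a.CS86
import Cfsg.Agent.Lib.Helper6.TCD.HNP1a.CS87
import Cfsg.Agent.Lib.Helper6.TCD.HNP1a.CS88
import Cfsg.Agent.Lib.Helper6.TCD.HNP1a.CS89
import Cfsg.Agent.Lib.Helper6.TCD.HNP1a.CS90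
import Cfsg.Agent.Lib.Helper6.TCD.HNP1a.CS91
import Cfsg.Agent.Lib.Helper6.TCD.HNP1a.CS92
import Cfsg.Agent.Lib.Helper6.TCD.HNP1a.CS93
import Cfsg.Agent.Lib.Helper6.TCD.HNP1a.CS94
import Cfsg.Agent.Lib.Helper6.TCD.HNP1a.CS95
import Cfsg.Agent.Lib.Helper6.TCD.HNP1a.CS96
import Cfsg.Agent.Lib.Helper6.TCD.HNP1a.CS97
import Cfsg.Agent.Lib.Helper6.TCD.HNP1a.CS98
import Cfsg.Agent.Lib.Helper6.TCD.HNP1a.CS99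
import Cfsg.Agent.Lib.Helper6.TCD.HNP1a.CS100
import Cfsg.Agent.Lib.Helper6.TCD.HNP1a.CS101
import Cfsg.Agent.Lib.Helper6.TCD.HNP1a.CS102
import Cfsg.Agent.Lib.Helper6.TCD.HNP1a.CS103
import Cfsg.Agent.Lib.Helper6.TCD.HNP1a.CS104
import Cfsg.Agent.Lib.Helper6.TCD.HNP1a.CS105
import Cfsg.Agent.Lib.Helper6.TCD.HNP1a.CS106
import Cfsg.Agent.Lib.Helper6.TCD.HNP1a.CS107
import Cfsg.Agent.Lib.Helper6.TCD.HNP1a.CS108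
import Cfsg.Agent.Lib.Helper6.TCD.HNP1a.CS109
import Cfsg.Agent.Lib.Helper6.TCD.HNP1a.CS110
import Cfsg.Agent.Lib.Helper6.TCD.HNP1a.CS111
import Cfsg.Agent.Lib.Helper6.TCD.HNP1a.CS112
import Cfsg.Agent.Lib.Helper6.TCD.HNP1a.CS113
import Cfsg.Agent.Lib.Helper6.TCD.HNP1a.CS114
import Cfsg.Agent.Lib.Helper6.TCD.HNP1a.CS115
import Cfsg.Agent.Lib.Helper6.TCD.HNP1a.CS116
import Cfsg.Agent.Lib.Helper6.TCD.HNP1a.CS117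
import Cfsg.Agent.Lib.Helper6.TCD.HNP1a.CS118
import Cfsg.Agent.Lib.Helper6.TCD.HNP1a.CS119
import Cfsg.Agent.Lib.Helper6.TCD.HNP1a.CS120
import Cfsg.Agent.Lib.Helper6.TCD.HNP1a.CS121
import Cfsg.Agent.Lib.Helper6.TCD.HNP1a.CS122
import Cfsg.Agent.Lib.Helper6.TCD.HNP1a.CS123
import Cfsg.Agent.Lib.Helper6.TCD.HNP1a.CS124
import Cfsg.Agent.Lib.Helper6.TCD.HNP1a.CS125
import Cfsg.Agent.Lib.Helper6.TCD.HNP1a.CS126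
import Cfsg.Agent.Lib.Helper6.TCD.HNP1a.CS127
import Cfsg.Agent.Lib.Helper6.TCD.HNP1a.CS128
import Cfsg.Agent.Lib.Helper6.TCD.HNP1a.CS129
import Cfsg.Agent.Lib.Helper6.TCD.HNP1a.CS130
import Cfsg.Agent.Lib.Helper6.TCD.HNP1a.CS131
import Cfsg.Agent.Lib.Helper6.TCD.HNP1a.CS132
import Cfsg.Agent.Lib.Helper6.TCD.HNP1a.CS133
import Cfsg.Agent.Lib.Helper6.TCD.HNP1a.CS134
import Cfsg.Agent.Lib.Helper6.TCD.HNP1a.CS135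
import Cfsg.Agent.Lib.Helper6.TCD.HNP1a.CS136
import Cfsg.Agent.Lib.Helper6.TCD.HNP1a.CS137
import Cfsg.Agent.Lib.Helper6.TCD.HNP1a.CS138
import Cfsg.Agent.Lib.Helper6.TCD.HNP1a.CS139
import Cfsg.Agent.Lib.Helper6.TCD.HNP1a.CS140
import Cfsg.Agent.Lib.Helper6.TCD.HNP1a.CS141
import Cfsg.Agent.Lib.Helper6.TCD.HNP1a.CS142
import Cfsg.Agent.Lib.Helper6.TCD.HNP1a.CS143
import Cfsg.Agent.Lib.Helper6.TCD.HNP1a.CS144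
import Cfsg.Agent.Lib.Helper6.TCD.HNP1a.CS145
import Cfsg.Agent.Lib.Helper6.TCD.HNP1a.CS146
import Cfsg.Agent.Lib.Helper6.TCD.HNP1a.CS147
import Cfsg.Agent.Lib.Helper6.TCD.HNP1a.CS148
import Cfsg.Agent.Lib.Helper6.TCD.HNP1a.CS149
import Cfsg.Agent.Lib.Helper6.TCD.HNP1a.CS150
import Cfsg.Agent.Lib.Helper6.TCD.HNP1a.CS151
import Cfsg.Agent.Lib.Helper6.TCD.HNP1a.CS152
import Cfsg.Agent.Lib.Helper6.TCD.HNP1a.CS153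
import Cfsg.Agent.Lib.Helper6.TCD.HNP1a.CS154
import Cfsg.Agent.Lib.Helper6.TCD.HNP1a.CS155
import Cfsg.Agent.Lib.Helper6.TCD.HNP1a.CS156
import Cfsg.Agent.Lib.Helper6.TCD.HNP1a.CS157
import Cfsg.Agent.Lib.Helper6.TCD.HNP1a.CS158
import Cfsg.Agent.Lib.Helper6.TCD.HNP1a.CS159
import Cfsg.Agent.Lib.Helper6.TCD.HNP1a.CS160
import Cfsg.Agent.Lib.Helper6.TCD.HNP1a.CS161
import Cfsg.Agent.Lib.Helper6.TCD.HNP1a.CS162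
import Cfsg.Agent.Lib.Helper6.TCD.HNP1a.CS163
import Cfsg.Agent.Lib.Helper6.TCD.HNP1a.CS164
import Cfsg.Agent.Lib.Helper6.TCD.HNP1a.CS165
import Cfsg.Agent.Lib.Helper6.TCD.HNP1a.CS166
import Cfsg.Agent.Lib.Helper6.TCD.HNP1a.CS167
import Cfsg.Agent.Lib.Helper6.TCD.HNP1a.CS168
import Cfsg.Agent.Lib.Helper6.TCD.HNP1a.CS169
import Cfsg.Agent.Lib.Helper6.TCD.HNP1a.CS170
import Cfsg.Agent.Lib.Helper6.TCD.HNP1a.CS171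
import Cfsg.Agent.Lib.Helper6.TCD.HNP1a.CS172
import Cfsg.Agent.Lib.Helper6.TCD.HNP1a.CS173
import Cfsg.Agent.Lib.Helper6.TCD.HNP1a.CS174
import Cfsg.Agent.Lib.Helper6.TCD.HNP1a.CS175
import Cfsg.Agent.Lib.Helper6.TCD.HNP1a.CS176
import Cfsg.Agent.Lib.Helper6.TCD.HNP1a.CS177
import Cfsg.Agent.Lib.Helper6.TCD.HNP1a.CS178
import Cfsg.Agent.Lib.Helper6.TCD.HNP1a.CS179
import Cfsg.Agent.Lib.Helper6.TCD.HNP1a.CS180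
import Cfsg.Agent.Lib.Helper6.TCD.HNP1a.CS181
import Cfsg.Agent.Lib.Helper6.TCD.HNP1a.CS182
import Cfsg.Agent.Lib.Helper6.TCD.HNP1a.CS183
import Cfsg.Agent.Lib.Helper6.TCD.HNP1a.CS184
import Cfsg.Agent.Lib.Helper6.TCD.HNP1a.CS185
import Cfsg.Agent.Lib.Helper6.TCD.HNP1a.CS186
import Cfsg.Agent.Lib.Helper6.TCD.HNP1a.CS187
import Cfsg.Agent.Lib.Helper6.TCD.HNP1a.CS188
import Cfsg.Agent.Lib.Helper6.TCD.HNP1a.CS189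
import Cfsg.Agent.Lib.Helper6.TCD.HNP1a.CS190
import Cfsg.Agent.Lib.Helper6.TCD.HNP1a.CS191
import Cfsg.Agent.Lib.Helper6.TCD.HNP1a.CS192
import Cfsg.Agent.Lib.Helper6.TCD.HNP1a.CS193
import Cfsg.Agent.Lib.Helper6.TCD.HNP1a.CS194
import Cfsg.Agent.Lib.Helper6.TCD.HNP1a.CS195
import Cfsg.Agent.Lib.Helper6.TCD.HNP1a.CS196
import Cfsg.Agent.Lib.Helper6.TCD.HNP1a.CS197
import Cfsg.Agent.Lib.Helper6.TCD.HNP1a.CS198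
import Cfsg.Agent.Lib.Helper6.TCD.HNP1a.CS199
import Cfsg.Agent.Lib.Helper6.TCD.HNP1a.CS200
import Cfsg.Agent.Lib.Helper6.TCD.HNP1a.CS201
import Cfsg.Agent.Lib.Helper6.TCD.HNP1a.CS202
import Cfsg.Agent.Lib.Helper6.TCD.HNP1a.CS203
import Cfsg.Agent.Lib.Helper6.TCD.HNP1a.CS204
import Cfsg.Agent.Lib.Helper6.TCD.HNP1a.CS205
import Cfsg.Agent.Lib.Helper6.TCD.HNP1a.CS206
import Cfsg.Agent.Lib.Helper6.TCD.HNP1a.CS207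
import Cfsg.Agent.Lib.Helper6.TCD.HNP1a.CS208
import Cfsg.Agent.Lib.Helper6.TCD.HNP1a.CS209
import Cfsg.Agent.Lib.Helper6.TCD.HNP1a.CS210
import Cfsg.Agent.Lib.Helper6.TCD.HNP1a.CS211
import Cfsg.Agent.Lib.Helper6.TCD.HNP1a.CS212
import Cfsg.Agent.Lib.Helper6.TCD.HNP1a.CS213
import Cfsg.Agent.Lib.Helper6.TCD.HNP1a.CS214
import Cfsg.Agent.Lib.Helper6.TCD.HNP1a.CS215
import Cfsg.Agent.Lib.Helper6.TCD.HNP1a.CS216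
import Cfsg.Agent.Lib.Helper6.TCD.HNP1a.CS217
import Cfsg.Agent.Lib.Helper6.TCD.HNP1a.CS218
import Cfsg.Agent.Lib.Helper6.TCD.HNP1a.CS219
import Cfsg.Agent.Lib.Helper6.TCD.HNP1a.CS220
import Cfsg.Agent.Lib.Helper6.TCD.HNP1a.CS221
import Cfsg.Agent.Lib.Helper6.TCD.HNP1a.CS222
import Cfsg.Agent.Lib.Helper6.TCD.HNP1a.CS223
import Cfsg.Agent.Lib.Helper6.TCD.HNP1a.CS224
import Cfsg.Agent.Lib.Helper6.TCD.HNP1a.CS225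
import Cfsg.Agent.Lib.Helper6.TCD.HNP1a.CS226
import Cfsg.Agent.Lib.Helper6.TCD.HNP1a.CS227
import Cfsg.Agent.Lib.Helper6.TCD.HNP1a.CS228
import Cfsg.Agent.Lib.Helper6.TCD.HNP1a.CS229
import Cfsg.Agent.Lib.Helper6.TCD.HNP1a.CS230
import Cfsg.Agent.Lib.Helper6.TCD.HNP1a.CS231
import Cfsg.Agent.Lib.Helper6.TCD.HNP1a.CS232
import Cfsg.Agent.Lib.Helper6.TCD.HNP1a.CS233
import Cfsg.Agent.Lib.Helper6.TCD.HNP1a.CS234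
import Cfsg.Agent.Lib.Helper6.TCD.HNP1a.CS235
import Cfsg.Agent.Lib.Helper6.TCD.HNP1a.CS236
import Cfsg.Agent.Lib.Helper6.TCD.HNP1a.CS237
import Cfsg.Agent.Lib.Helper6.TCD.HNP1a.CS238
import Cfsg.Agent.Lib.Helper6.TCD.HNP1a.CS239
import Cfsg.Agent.Lib.Helper6.TCD.HNP1a.CS240
import Cfsg.Agent.Lib.Helper6.TCD.HNP1a.CS241
import Cfsg.Agent.Lib.Helper6.TCD.HNP1a.CS242
import Cfsg.Agent.Lib.Helper6.TCD.HNP1a.CS243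
import Cfsg.Agent.Lib.Helper6.TCD.HNP1a.CS244
import Cfsg.Agent.Lib.Helper6.TCD.HNP1a.CS245
import Cfsg.Agent.Lib.Helper6.TCD.HNP1a.CS246
import Cfsg.Agent.Lib.Helper6.TCD.HNP1a.CS247
import Cfsg.Agent.Lib.Helper6.TCD.HNP1a.CS248
import Cfsg.Agent.Lib.Helper6.TCD.HNP1a.CS249
import Cfsg.Agent.Lib.Helper6.TCD.HNP1a.CS250
import Cfsg.Agent.Lib.Helper6.TCD.HNP1a.CS251
import Cfsg.Agent.Lib.Helper6.TCD.HNP1a.CS252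
import Cfsg.Agent.Lib.Helper6.TCD.HNP1a.CS253
import Cfsg.Agent.Lib.Helper6.TCD.HNP1a.CS254
import Cfsg.Agent.Lib.Helper6.TCD.HNP1a.CS255
import Cfsg.Agent.Lib.Helper6.TCD.HNP1a.CS256
import Cfsg.Agent.Lib.Helper6.TCD.HNP1a.CS257
import Cfsg.Agent.Lib.Helper6.TCD.HNP1a.CS258
import Cfsg.Agent.Lib.Helper6.TCD.HNP1a.CS259
import Cfsg.Agent.Lib.Helper6.TCD.HNP1a.CS260
import Cfsg.Agent.Lib.Helper6.TCD.HNP1a.CS261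
import Cfsg.Agent.Lib.Helper6.TCD.HNP1a.CS262
import Cfsg.Agent.Lib.Helper6.TCD.HNP1a.CS263
import Cfsg.Agent.Lib.Helper6.TCD.HNP1a.CS264
import Cfsg.Agent.Lib.Helper6.TCD.HNP1a.CS265
import Cfsg.Agent.Lib.Helper6.TCD.HNP1a.CS266
import Cfsg.Agent.Lib.Helper6.TCD.HNP1a.CS267
import Cfsg.Agent.Lib.Helper6.TCD.HNP1a.CS268
import Cfsg.Agent.Lib.Helper6.TCD.HNP1a.CS269
import Cfsg.Agent.Lib.Helper6.TCD.HNP1a.CS270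
import Cfsg.Agent.Lib.Helper6.TCD.HNP1a.CS271
import Cfsg.Agent.Lib.Helper6.TCD.HNP1a.CS272
import Cfsg.Agent.Lib.Helper6.TCD.HNP1a.CS273
import Cfsg.Agent.Lib.Helper6.TCD.HNP1a.CS274
import Cfsg.Agent.Lib.Helper6.TCD.HNP1a.CS275
import Cfsg.Agent.Lib.Helper6.TCD.HNP1a.CS276
import Cfsg.Agent.Lib.Helper6.TCD.HNP1a.CS277
import Cfsg.Agent.Lib.Helper6.TCD.HNP1a.CS278
import Cfsg.Agent.Lib.Helper6.TCD.HNP1a.CS279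
import Cfsg.Agent.Lib.Helper6.TCD.HNP1a.CS280
import Cfsg.Agent.Lib.Helper6.TCD.HNP1a.CS281
import Cfsg.Agent.Lib.Helper6.TCD.HNP1a.CS282
import Cfsg.Agent.Lib.Helper6.TCD.HNP1a.CS283
import Cfsg.Agent.Lib.Helper6.TCD.HNP1a.CS284
import Cfsg.Agent.Lib.Helper6.TCD.HNP1a.CS285
import Cfsg.Agent.Lib.Helper6.TCD.HNP1a.CS286
import Cfsg.Agent.Lib.Helper6.TCD.HNP1a.CS287
import Cfsg.Agent.Lib.Helper6.TCD.HNP1a.CS288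
import Cfsg.Agent.Lib.Helper6.TCD.HNP1a.CS289
import Cfsg.Agent.Lib.Helper6.TCD.HNP1a.CS290
import Cfsg.Agent.Lib.Helper6.TCD.HNP1a.CS291
import Cfsg.Agent.Lib.Helper6.TCD.HNP1a.CS292
import Cfsg.Agent.Lib.Helper6.TCD.HNP1a.CS293
import Cfsg.Agent.Lib.Helper6.TCD.HNP1a.CS294
import Cfsg.Agent.Lib.Helper6.TCD.HNP1a.CN0
import Cfsg.Agent.Lib.Helper6.TCD.HNP1a.CN1
import Cfsg.Agent.Lib.Helper6.TCD.HNP1a.CN2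
import Cfsg.Agent.Lib.Helper6.TCD.HNP1a.CN3
import Cfsg.Agent.Lib.Helper6.TCD.HNP1a.CN4
import Cfsg.Agent.Lib.Helper6.TCD.HNP1a.CN5
import Cfsg.Agent.Lib.Helper6.TCD.HNP1a.CN6
import Cfsg.Agent.Lib.Helper6.TCD.HNP1a.CN7
import Cfsg.Agent.Lib.Helper6.TCD.HNP1a.CN8
import Cfsg.Agent.Lib.Helper6.TCD.HNP1a.CN9
import Cfsg.Agent.Lib.Helper6.TCD.HNP1a.CN10
import Cfsg.Agent.Lib.Helper6.TCD.HNP1a.CN11
import Cfsg.Agent.Lib.Helper6.TCD.HNP1a.CN12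
import Cfsg.Agent.Lib.Helper6.TCD.HNP1a.CN13
import Cfsg.Agent.Lib.Helper6.TCD.HNP1a.CN14
import Cfsg.Agent.Lib.Helper6.TCD.HNP1a.CN15
import Cfsg.Agent.Lib.Helper6.TCD.HNP1a.CN16
import Cfsg.Agent.Lib.Helper6.TCD.HNP1a.CN17
import Cfsg.Agent.Lib.Helper6.TCD.HNP1a.CN18
import Cfsg.Agent.Lib.Helper6.TCD.HNP1a.CN19
import Cfsg.Agent.Lib.Helper6.TCD.HNP1a.CN20
import Cfsg.Agent.Lib.Helper6.TCD.HNP1a.CN21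
import Cfsg.Agent.Lib.Helper6.TCD.HNP1a.CN22
import Cfsg.Agent.Lib.Helper6.TCD.HNP1a.CN23
import Cfsg.Agent.Lib.Helper6.TCD.HNP1a.CN24
import Cfsg.Agent.Lib.Helper6.TCD.HNP1a.CN25
import Cfsg.Agent.Lib.Helper6.TCD.HNP1a.CN26
import Cfsg.Agent.Lib.Helper6.TCD.HNP1a.CN27
import Cfsg.Agent.Lib.Helper6.TCD.HNP1a.CN28
import Cfsg.Agent.Lib.Helper6.TCD.HNP1a.CN29
import Cfsg.Agent.Lib.Helper6.TCD.HNP1a.CN30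
import Cfsg.Agent.Lib.Helper6.TCD.HNP1a.CN31
import Cfsg.Agent.Lib.Helper6.TCD.HNP1a.CN32
import Cfsg.Agent.Lib.Helper6.TCD.HNP1a.CN33
import Cfsg.Agent.Lib.Helper6.TCD.HNP1a.CN34
import Cfsg.Agent.Lib.Helper6.TCD.HNP1a.CN35
import Cfsg.Agent.Lib.Helper6.TCD.HNP1a.CN36
import Cfsg.Agent.Lib.Helper6.TCD.HNP1a.CN37
import Cfsg.Agent.Lib.Helper6.TCD.HNP1a.CN38
import Cfsg.Agent.Lib.Helper6.TCD.HNP1a.CN39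
import Cfsg.Agent.Lib.Helper6.TCD.HNP1a.CN40
import Cfsg.Agent.Lib.Helper6.TCD.HNP1a.CN41
import Cfsg.Agent.Lib.Helper6.TCD.HNP1a.CN42
import Cfsg.Agent.Lib.Helper6.TCD.HNP1a.CN43
import Cfsg.Agent.Lib.Helper6.TCD.HNP1a.CN44
import Cfsg.Agent.Lib.Helper6.TCD.HNP1a.CN45
import Cfsg.Agent.Lib.Helper6.TCD.HNP1a.CN46
import Cfsg.Agent.Lib.Helper6.TCD.HNP1a.CN47
import Cfsg.Agent.Lib.Helper6.TCD.HNP1a.CN48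
import Cfsg.Agent.Lib.Helper6.TCD.HNP1a.CN49
import Cfsg.Agent.Lib.Helper6.TCD.HNP1a.CN50
import Cfsg.Agent.Lib.Helper6.TCD.HNP1a.CN51
import Cfsg.Agent.Lib.Helper6.TCD.HNP1a.CN52
import Cfsg.Agent.Lib.Helper6.TCD.HNP1a.CN53
import Cfsg.Agent.Lib.Helper6.TCD.HNP1a.CN54
import Cfsg.Agent.Lib.Helper6.TCD.HNP1a.CN55
import Cfsg.Agent.Lib.Helper6.TCD.HNP1a.CN56
import Cfsg.Agent.Lib.Helper6.TCD.HNP1a.CN57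
import Cfsg.Agent.Lib.Helper6.TCD.HNP1a.CN58
import Cfsg.Agent.Lib.Helper6.TCD.HNP1a.CN59
import Cfsg.Agent.Lib.Helper6.TCD.HNP1a.CN60
import Cfsg.Agent.Lib.Helper6.TCD.HNP1a.CN61
import Cfsg.Agent.Lib.Helper6.TCD.HNP1a.CN62
import Cfsg.Agent.Lib.Helper6.TCD.HNP1a.CN63
import Cfsg.Agent.Lib.Helper6.TCD.HNP1a.CN64
import Cfsg.Agent.Lib.Helper6.TCD.HNP1a.CN65
import Cfsg.Agent.Lib.Helper6.TCD.HNP1a.CN66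
import Cfsg.Agent.Lib.Helper6.TCD.HNP1a.CN67
import Cfsg.Agent.Lib.Helper6.TCD.HNP1a.CN68
import Cfsg.Agent.Lib.Helper6.TCD.HNP1a.CN69
import Cfsg.Agent.Lib.Helper6.TCD.HNP1a.CN70
import Cfsg.Agent.Lib.Helper6.TCD.HNP1a.CN71
import Cfsg.Agent.Lib.Helper6.TCD.HNP1a.CN72
import Cfsg.Agent.Lib.Helper6.TCD.HNP1a.CN73
import Cfsg.Agent.Lib.Helper6.TCD.HNP1a.CN74
import Cfsg.Agent.Lib.Helper6.TCD.HNP1a.CN75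
import Cfsg.Agent.Lib.Helper6.TCD.HNP1a.CN76
import Cfsg.Agent.Lib.Helper6.TCD.HNP1a.CN77
import Cfsg.Agent.Lib.Helper6.TCD.HNP1a.CN78
import Cfsg.Agent.Lib.Helper6.TCD.HNP1a.CN79
import Cfsg.Agent.Lib.Helper6.TCD.HNP1a.CN80
import Cfsg.Agent.Lib.Helper6.TCD.HNP1a.CN81
import Cfsg.Agent.Lib.Helper6.TCD.HNP1a.CN82
import Cfsg.Agent.Lib.Helper6.TCD.HNP1a.CN83
import Cfsg.Agent.Lib.Helper6.TCD.HNP1a.CN84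
import Cfsg.Agent.Lib.Helper6.TCD.HNP1a.CN85
import Cfsg.Agent.Lib.Helper6.TCD.HNP1a.CN86
import Cfsg.Agent.Lib.Helper6.TCD.HNP1a.CN87
import Cfsg.Agent.Lib.Helper6.TCD.HNP1a.CN88
import Cfsg.Agent.Lib.Helper6.TCD.HNP1a.CN89
import Cfsg.Agent.Lib.Helper6.TCD.HNP1a.CN90
import Cfsg.Agent.Lib.Helper6.TCD.HNP1a.CN91
import Cfsg.Agent.Lib.Helper6.TCD.HNP1a.CN92
import Cfsg.Agent.Lib.Helper6.TCD.HNP1a.CN93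
import Cfsg.Agent.Lib.Helper6.TCD.HNP1a.CN94
import Cfsg.Agent.Lib.Helper6.TCD.HNP1a.CN95
import Cfsg.Agent.Lib.Helper6.TCD.HNP1a.CN96
import Cfsg.Agent.Lib.Helper6.TCD.HNP1a.CN97
import Cfsg.Agent.Lib.Helper6.TCD.HNP1a.CN98
import Cfsg.Agent.Lib.Helper6.TCD.HNP1a.CC
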