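import Cfsg.Agent.Lib.Helper6.TCD.HNP1a.SHP0
import Cfsg.Agent.Lib.Helper6.TCD.HNP1a.SHP1
import Cfsg.Agent.Lib.Helper6.TCD.HNP1a.SHP2
import Cfsg.Agent.Lib.Helper6.TCD.HNP1a.SHP3
import Cfsg.Agent.Lib.Helper6.TCD.HNP1a.SHP4
import Cfsg.Agent.Lib.Helper6.TCD.HNP1a.SHP5
import Cfsg.Agent.Lib.Helper6.TCD.HNP1a.SHP6
import Cfsg.Agent.Lib.Helper6.TCD.HNP1a.SHP7
import Cfsg.Agent.Lib.Helper6.TCD.HNP1a.SHP8
import Cfsg.Agent.Lib.Helper6.TCD.HNP1a.SHP9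
import Cfsg.Agent.Lib.Helper6.TCD.HNP1a.SHP10
import Cfsg.Agent.Lib.Helper6.TCD.HNP1a.SHP11
import Cfsg.Agent.Lib.Helper6.TCD.HNP1a.SHP12
import Cfsg.Agent.Lib.Helper6.TCD.HNP1a.SHP13
import Cfsg.Agent.Lib.Helper6.TCD.HNP1a.SHP14
import Cfsg.Agent.Lib.Helper6.TCD.HNP1a.SHP15
import Cfsg.Agent.Lib.Helper6.TCD.HNP1a.SHP16
import Cfsg.Agent.Lib.Helper6.TCD.HNP1a.SHP17
import Cfsg.Agent.Lib.Helper6.TCD.HNP1a.SHP18
import Cfsg.Agent.Lib.Helper6.TCD.HNP1a.SHP19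
import Cfsg.Agent.Lib.Helper6.TCD.HNP1a.SHP20
import Cfsg.Agent.Lib.Helper6.TCD.HNP1a.SHP21
import Cfsg.Agent.Lib.Helper6.TCD.HNP1a.SHP22
import Cfsg.Agent.Lib.Helper6.TCD.HNP1a.SHP23
import Cfsg.Agent.Lib.Helper6.TCD.HNP1a.SHP24
import Cfsg.Agent.Lib.Helper6.TCD.HNP1a.SHP25
import Cfsg.Agent.Lib.Helper6.TCD.HNP1a.SHP26
import Cfsg.Agent.Lib.Helper6.TCD.HNP1a.SHP27
import Cfsg.Agent.Lib.Helper6.TCD.HNP1a.SHP28
import Cfsg.Agent.Lib.Helper6.TCD.HNP1a.SHP29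
import Cfsg.Agent.Lib.Helper6.TCD.HNP1a.SHP30
import Cfsg.Agent.Lib.Helper6.TCD.HNP1a.SHP31
import Cfsg.Agent.Lib.Helper6.TCD.HNP1a.SHP32
import Cfsg.Agent.Lib.Helper6.TCD.HNP1a.SHP33
import Cfsg.Agent.Lib.Helper6.TCD.HNP1a.SHP34
import Cfsg.Agent.Lib.Helper6.TCD.HNP1a.SHP35
set_option autoImplicit false
namespace Cfsg.Agent.Lib.Helper6.TCD.HNP1a
noncomputable def SHT0 (i : Nat) : Nat := Bool.rec (SHP0N62 i) (SHP1N62 i) (Nat.ble 65536 i)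
noncomputable def SHT1 (i : Nat) : Nat := Bool.rec (SHT0 i) (SHP2N62 i) (Nat.ble 131072 i)
noncomputable def SHT2 (i : Nat) : Nat := Bool.rec (SHP3N62 i) (SHP4N62 i) (Nat.ble 262144 i)
noncomputable def SHT3 (i : Nat) : Nat := Bool.rec (SHT1 i) (SHT2 i) (Nat.ble 196608 i)
noncomputable def SHT4 (i : Nat) : Nat := Bool.rec (SHP5N62 i) (SHP6N62 i) (Nat.ble 393216 i)
noncomputable def SHT5 (i : Nat) : Nat := Bool.rec (SHP7N62 i) (SHP8N62 i) (Nat.ble 524288 i)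
noncomputable def SHT6 (i : Nat) : Nat := Bool.rec (SHT4 i) (SHT5 i) (Nat.ble 458752 i)
noncomputable def SHT7 (i : Nat) : Nat := Bool.rec (SHT3 i) (SHT6 i) (Nat.ble 327680 i)
noncomputable def SHT8 (i : Nat) : Nat := Bool.rec (SHP9N62 i) (SHP10N62 i) (Nat.ble 655360 i)
noncomputable def SHT9 (i : Nat) : Nat := Bool.rec (SHT8 i) (SHP11N62 i) (Nat.ble 720896 i)
noncomputable def SHT10 (i : Nat) : Nat := Bool.rec (SHP12N62 i) (SHP13N62 i) (Nat.ble 851968 i)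
noncomputable def SHT11 (i : Nat) : Nat := Bool.rec (SHT9 i) (SHT10 i) (Nat.ble 786432 i)
noncomputable def SHT12 (i : Nat) : Nat := Bool.rec (SHP14N62 i) (SHP15N62 i) (Nat.ble 983040 i)
noncomputable def SHT13 (i : Nat) : Nat := Bool.rec (SHP16N62 i) (SHP17N62 i) (Nat.ble 1114112 i)
noncomputable def SHT14 (i : Nat) : Nat := Bool.rec (SHT12 i) (SHT13 i) (Nat.ble 1048576 i)
noncomputable def SHT15 (i : Nat) : Nat := Bool.rec (SHT11 i) (SHT14 i) (Nat.ble 917504 i)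
noncomputable def SHT16 (i : Nat) : Nat := Bool.rec (SHT7 i) (SHT15 i) (Nat.ble 589824 i)
noncomputable def SHT17 (i : Nat) : Nat := Bool.rec (SHP18N62 i) (SHP19N62 i) (Nat.ble 1245184 i)
noncomputable def SHT18 (i : Nat) : Nat := Bool.rec (SHT17 i) (SHP20N62 i) (Nat.ble 1310720 i)
noncomputable def SHT19 (i : Nat) : Nat := Bool.rec (SHP21N62 i) (SHP22N62 i) (Nat.ble 1441792 i)
noncomputable def SHT20 (i : Nat) : Nat := Bool.rec (SHT18 i) (SHT19 i) (Nat.ble 1376256 i)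
noncomputable def SHT21 (i : Nat) : Nat := Bool.rec (SHP23N62 i) (SHP24N62 i) (Nat.ble 1572864 i)
noncomputable def SHT22 (i : Nat) : Nat := Bool.rec (SHP25N62 i) (SHP26N62 i) (Nat.ble 1703936 i)
noncomputable def SHT23 (i : Nat) : Nat := Bool.rec (SHT21 i) (SHT22 i) (Nat.ble 1638400 i)
noncomputable def SHT24 (i : Nat) : Nat := Bool.rec (SHT20 i) (SHT23 i) (Nat.ble 1507328 i)
noncomputable def SHT25 (i : Nat) : Nat := Bool.rec (SHP27N62 i) (SHP28N62 i) (Nat.ble 1835008 i)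
noncomputable def SHT26 (i : Nat) : Nat := Bool.rec (SHT25 i) (SHP29N62 i) (Nat.ble 1900544 i)
noncomputable def SHT27 (i : Nat) : Nat := Bool.rec (SHP30N62 i) (SHP31N62 i) (Nat.ble 2031616 i)
noncomputable def SHT28 (i : Nat) : Nat := Bool.rec (SHT26 i) (SHT27 i) (Nat.ble 1966080 i)
noncomputable def SHT29 (i : Nat) : Nat := Bool.rec (SHP32N62 i) (SHP33N62 i) (Nat.ble 2162688 i)
noncomputable def SHT30 (i : Nat) : Nat := Bool.rec (SHP34N62 i) (SHP35N60 i) (Nat.ble 2293760 i)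
noncomputable def SHT31 (i : Nat) : Nat := Bool.rec (SHT29 i) (SHT30 i) (Nat.ble 2228224 i)
noncomputable def SHT32 (i : Nat) : Nat := Bool.rec (SHT28 i) (SHT31 i) (Nat.ble 2097152 i)
noncomputable def SHT33 (i : Nat) : Nat := Bool.rec (SHT24 i) (SHT32 i) (Nat.ble 1769472 i)
noncomputable def SH (i : Nat) : Nat := Bool.rec (SHT16 i) (SHT33 i) (Nat.ble 1179648 i)
end Cfsg.Agent.Lib.Helper6.TCD.HNP1a
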